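import Cfsg.Agent.Lib.Small.SpCover.Two

/-!
Central extensions of `Sp₆(2)` split when the lifts of a long and a disjoint short root element commute.
-/

set_option autoImplicit false
set_option linter.unusedSectionVars false
set_option linter.unusedSimpArgs false

namespace Cfsg.Agent.Small.SpCover

open Matrix Cfsg.Agent.Lie.SpAmalgam Cfsg.Agent.Lead.SL2Pres Cfsg.Agent.Small.SpPres
open Cfsg.Agent.Small.SchurLifts
open scoped commutatorElement

variable {F : Type*} [Field F] [Fintype F] {m : ℕ} {Γ : Type*} [Group Γ]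

theorem exists_third (hm : m = 3) (i j : Fin m) : ∃ h, h ≠ i ∧ h ≠ j := by
  classical
  obtain ⟨h, -, hh⟩ := Finset.exists_mem_notMem_of_card_lt_card (s := ({i, j} : Finset (Fin m)))
    (t := Finset.univ) (lt_of_le_of_lt Finset.card_le_two (by simp; omega))
  simp only [Finset.mem_insert, Finset.mem_singleton, not_or] at hh
  exact ⟨h, hh⟩

theorem act_emb_other (r : Fin m) (s : Matrix.SpecialLinearGroup (Fin 2) F) {k : Fin m} (h : k ≠ r) :
    act (emb r s) (e k) = e k := by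
  rw [act_emb]; simp [h.symm]

/-- The exchange at one coordinate moves a short root element into the Levi subgroup. -/
theorem emb_tw_QX' (h' : 2 ≤ m) {r s : Fin m} (h : s ≠ r) (b : F) :
    emb r tw * QX r s b * (emb r tw)⁻¹ = QE h b := by
  obtain ⟨σ, hs, hr⟩ := exists_perm h' h
  subst hs hr
  have e0 := emb_tw_QX h' b
  have e' : emb (i0 h') tw * QX (i0 h') (i1 h') b * (emb (i0 h') tw)⁻¹ = E (b • -(f (i0 h') : V m F)) (e (i1 h')) := by
    rw [QX, E_conj, act_smul, act_emb_e, act_emb_other _ _ (i1_ne h')]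
    simp [tw]
  have he : emb (σ (i0 h')) tw * QX (σ (i0 h')) (σ (i1 h')) b * (emb (σ (i0 h')) tw)⁻¹ =
      E (b • -(f (σ (i0 h')) : V m F)) (e (σ (i1 h'))) := by
    rw [QX, E_conj, act_smul, act_emb_e, act_emb_other _ _ h]
    simp [tw]
  rw [he, ← pg_QE σ (i1_ne h') b, ← e0, e', E_conj, act_smul, act_lev_pg_e,
    show -(f (i0 h') : V m F) = (-1 : F) • f (i0 h') from (neg_one_smul _ _).symm, act_smul, act_lev_pg_f,
    neg_one_smul]

theorem emb_tw_fix_QX {r i j : Fin m} (hi : i ≠ r) (hj : j ≠ r) (b : F) :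
    emb r tw * QX i j b * (emb r tw)⁻¹ = QX i j b := by
  rw [QX, E_conj, act_smul, act_emb_other _ _ hi, act_emb_other _ _ hj]

theorem emb_tw_fix_QT {r i : Fin m} (hi : i ≠ r) (b : F) : emb r tw * QT i b * (emb r tw)⁻¹ = QT i b := by
  rw [QT, T_conj, act_emb_other _ _ hi]

theorem emb_tw_fix_QE {r i j : Fin m} (h : i ≠ j) (hi : i ≠ r) (hj : j ≠ r) (b : F) :
    emb r tw * QE h b * (emb r tw)⁻¹ = QE h b :=
  mul_inv_eq_iff_eq_mul.2 (model_stab r (stab_el h hi hj b) tw).eq.symm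

/-- A commutator fixed by an element whose square is central is an involution. -/
theorem comm_sq {G : Type*} [Group G] {a b : G} (hb : Commute b ⁅a, b⁆) (hbb : b * b ∈ Subgroup.center G) :
    ⁅a, b⁆ * ⁅a, b⁆ = 1 := by
  have h1 : b * a * b⁻¹ = ⁅a, b⁆⁻¹ * a := by simp only [commutatorElement_def]; group
  have h2 : b * b * a * (b * b)⁻¹ = a := by rw [← Subgroup.mem_center_iff.1 hbb a, mul_inv_cancel_right]
  rw [show b * b * a * (b * b)⁻¹ = (b * ⁅a, b⁆⁻¹ * b⁻¹) * (b * a * b⁻¹) by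
    rw [show b * b * a * (b * b)⁻¹ = b * (b * a * b⁻¹) * b⁻¹ by group, h1]; group,
    hb.inv_right.eq, mul_inv_cancel_right, h1, ← mul_assoc, mul_eq_right] at h2
  rwa [← _root_.mul_inv_rev, inv_eq_one] at h2

variable (C : Central Γ (Sp m F)) (h2 : Fintype.card F = 2) (hm : m = 3)
  (hTX : ∀ i j k : Fin m, i ≠ j → i ≠ k → j ≠ k → ∀ b c, Cl C (QT i b) (QX j k c))

include h2 hm hTX

omit hTX in
theorem three_TXa {i j : Fin m} (h : i ≠ j) (b c : F) : Cl C (QT i b) (QX i j c) := by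
  obtain ⟨l, hli, hlj⟩ := exists_third hm i j
  have hz : ∀ c, Cl C (QT i b) (QX j i c) := fun c =>
    Cl.of_conj (y := QX l i c) (QE hlj.symm 1) (QX_QT_comm _ _ _ _ _).symm (QX_QT_comm _ _ _ _ _).symm
      (el_QT_fix _ _ hli.symm b) (by rw [el_QX _ _ hli.symm, one_mul])
  rw [QX_symm]; exact hz c

theorem three_TT {i j : Fin m} (h : i ≠ j) (b c : F) : Cl C (QT i b) (QT j c) := by
  obtain ⟨l, hli, hlj⟩ := exists_third hm i j
  have hz : Cl C (QT i b) (QT j c * QX l j c) :=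
    Cl.of_conj (y := QT l c) (QE hlj.symm 1) (QT_QT_comm _ _ _ _)
      ((QT_QT_comm _ _ _ _).mul_right (QX_QT_comm _ _ _ _ _).symm) (el_QT_fix _ _ hli.symm b)
      (by rw [el_QT, one_pow, one_mul])
  exact Cl.cancel_right (hTX _ _ _ hli.symm h hlj b c) hz

omit hTX in
theorem three_XXs {i j k : Fin m} (b c : F) (hik : i ≠ k) (hjk : j ≠ k) : Cl C (QX i k b) (QX j k c) := by
  by_cases hij : i = j
  · subst hij
    exact two_self C h2 (QX_add _ _) b c
  have hz : Cl C (QX i k b) (QT k c * QX j k c) :=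
    Cl.of_conj (y := QT j c) (QE hjk.symm 1) (QX_QT_comm _ _ _ _ _)
      ((QX_QT_comm _ _ _ _ _).mul_right (QX_QX_comm _ _ _ _ _ _)) (el_QX_fix _ _ hij hjk.symm b)
      (by rw [el_QT, one_pow, one_mul])
  refine Cl.cancel_left ?_ hz
  rw [QX_symm i k]
  exact (three_TXa C h2 hm hik.symm c b).symm

theorem three_ET {k l p : Fin m} (hkl : k ≠ l) (hp : p ≠ l) (t b : F) : Cl C (QE hkl t) (QT p b) := by
  have h0 : Cl C (QT p b) (QX l k t) := by
    by_cases hpk : p = k
    · subst hpk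
      rw [QX_symm]
      exact three_TXa C h2 hm hkl b t
    · exact hTX _ _ _ hp hpk hkl.symm b t
  exact (h0.map (emb l tw) (emb_tw_fix_QT hp b) (emb_tw_QX' (by omega) hkl t)).symm

theorem three_EX {p q : Fin m} (h : p ≠ q) : Cl C (QE h (1 : F)) (QX p q 1) := by
  have hneg : (-1 : F) = 1 := (two_field h2 (-1 : F)).resolve_left (neg_ne_zero.2 one_ne_zero)
  have h11 : (1 : F) + 1 = 0 := by linear_combination -hneg
  set a := C.L (QE h (1 : F)) with ha
  set b := C.L (QT q (1 : F)) with hb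
  set w := C.L (emb q (tw : Matrix.SpecialLinearGroup (Fin 2) F)) with hw
  have eT : ∀ g : Sp m F, g * QT q 1 * g⁻¹ = QT q 1 * (QT p 1 * QX p q 1) →
      ⁅g, QT q (1 : F)⁆ = QT p 1 * QX p q 1 := fun g hg => by
    rw [commutatorElement_def, hg, ((QT_QT_comm q p (1 : F) 1).mul_right (QX_QT_comm p q q 1 1).symm).eq,
      mul_inv_cancel_right]
  have e1 : QE h (1 : F) * QT q 1 * (QE h 1)⁻¹ = QT q 1 * (QT p 1 * QX p q 1) := by
    rw [el_QT, one_pow, one_mul, QX_symm q p]
  have hk : C.π ⁅a, b⁆ = QT p 1 * QX p q 1 := by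
    rw [ha, hb, map_commutatorElement, C.π_L, C.π_L]; exact eT _ e1
  have hbk : Cl C (QT q (1 : F)) (QT p 1 * QX p q 1) := by
    refine (three_TT C h2 hm hTX h.symm 1 1).mul_right ?_
    rw [QX_symm]
    exact three_TXa C h2 hm h.symm 1 1
  have hbb : b * b ∈ Subgroup.center Γ := C.central (by
    rw [MonoidHom.mem_ker, map_mul, hb, C.π_L, QT_add, h11, root_zero (QT_add q)])
  have s0 := comm_sq (a := a) (b := b) (hbk.lift (C.π_L _) hk) hbb
  set k' := w * ⁅a, b⁆ * w⁻¹ with hk'd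
  have hk' : C.π k' = QT p 1 * QE h 1 := by
    have e3 := emb_tw_QX' (F := F) (by omega : 2 ≤ m) h 1
    rw [QX_symm q p] at e3
    calc C.π k' = emb q tw * (QT p 1 * QX p q 1) * (emb q tw)⁻¹ := by
          rw [hk'd, map_mul, map_mul, map_inv, hk, hw, C.π_L]
      _ = (emb q tw * QT p 1 * (emb q tw)⁻¹) * (emb q tw * QX p q 1 * (emb q tw)⁻¹) := by group
      _ = _ := by rw [emb_tw_fix_QT h, e3]
  have s1 : k' * k' = 1 := by
    rw [hk'd, show w * ⁅a, b⁆ * w⁻¹ * (w * ⁅a, b⁆ * w⁻¹) = w * (⁅a, b⁆ * ⁅a, b⁆) * w⁻¹ by group, s0, mul_one,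
      mul_inv_cancel]
  have hk1 : C.π ⁅k', b⁆ = QT p 1 * QX p q 1 := by
    rw [map_commutatorElement, hk', hb, C.π_L]
    refine eT _ ?_
    rw [_root_.mul_inv_rev, show QT p (1 : F) * QE h 1 * QT q 1 * ((QE h 1)⁻¹ * (QT p 1)⁻¹) =
        QT p 1 * (QE h 1 * QT q 1 * (QE h 1)⁻¹) * (QT p 1)⁻¹ by group, e1,
      ((QT_QT_comm p q (1 : F) 1).mul_right ((Commute.refl _).mul_right (QX_QT_comm p q p 1 1).symm)).eq,
      mul_inv_cancel_right]
  have s2 := comm_sq (a := k') (b := b) (hbk.lift (C.π_L _) hk1) hbb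
  have s3 : (⁅k', b⁆⁻¹ * k') * (⁅k', b⁆⁻¹ * k') = 1 := by
    rw [show ⁅k', b⁆⁻¹ * k' = b * k' * b⁻¹ by simp only [commutatorElement_def]; group,
      show b * k' * b⁻¹ * (b * k' * b⁻¹) = b * (k' * k') * b⁻¹ by group, s1, mul_one, mul_inv_cancel]
  rw [inv_eq_of_mul_eq_one_right s2] at s3
  have hcomm : Commute ⁅k', b⁆ k' := by
    show _ = _
    rw [← inv_eq_of_mul_eq_one_right s3, _root_.mul_inv_rev, inv_eq_of_mul_eq_one_right s1,
      inv_eq_of_mul_eq_one_right s2]
  have hcl : Cl C (QT p 1 * QX p q 1) (QT p 1 * QE h (1 : F)) := Cl.of_lift hk1 hk' hcomm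
  have h0 : Cl C (QT p (1 : F)) (QX p q 1) := three_TXa C h2 hm h 1 1
  have h1 : Cl C (QT p 1 * QX p q 1) (QE h (1 : F)) :=
    Cl.cancel_left ((Cl.refl _).mul_left h0.symm) hcl
  exact Cl.cancel_left (three_ET C h2 hm hTX h h 1 1) h1.symm

omit hTX in
theorem three_EE {i j k l : Fin m} (hij : i ≠ j) (hkl : k ≠ l) (h1 : i ≠ l) (h4 : j ≠ k) (t u : F) :
    Cl C (QE hij t) (QE hkl u) := by
  by_cases hki : k = i
  · subst hki
    by_cases hlj : l = j
    · subst hlj; exact two_self C h2 (QE_add hij) t u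
    have h0 := three_XXs C h2 hm (i := j) (j := l) (k := k) t u h4 hkl.symm
    have h3 := h0.map (emb j tw) (emb_tw_QX' (by omega) hij t) (emb_tw_fix_QX hlj hij u)
    exact h3.map (emb l tw) (emb_tw_fix_QE hij h1 (Ne.symm hlj) t) (emb_tw_QX' (by omega) hkl u)
  have hlj : l = j := by
    subst hm
    revert i j k l
    decide
  subst hlj
  have h0 : Cl C (QX l i t) (QX l k u) := by
    rw [QX_symm l i, QX_symm l k]
    exact three_XXs C h2 hm t u hij hkl
  exact h0.map (emb l tw) (emb_tw_QX' (by omega) hij t) (emb_tw_QX' (by omega) hkl u)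

omit hTX in
theorem three_indep {i j l p : Fin m} (hij : i ≠ j) (hjl : j ≠ l) (hil : i ≠ l) (hip : i ≠ p) (hpl : p ≠ l)
    (t u : F) : ⁅C.L (QE hij t), C.L (QE hjl u)⁆ = ⁅C.L (QE hip (t * u)), C.L (QE hpl 1)⁆ := by
  have hjp : j = p := by
    subst hm
    revert i j l p
    decide
  subst hjp
  rcases two_field h2 t with rfl | rfl
  · rw [zero_mul, comm_zero_left C h2, comm_zero_left C h2]
  rcases two_field h2 u with rfl | rfl
  · rw [mul_zero, comm_zero_left C h2, comm_zero_right C h2]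
  rw [one_mul]

omit hTX in
theorem three_theta :
    ∃ θ : Matrix.SpecialLinearGroup (Fin m) F →* Γ,
      (∀ v, C.π (θ v) = lev m F v.toGL) ∧
      ∀ (i j l : Fin m) (hij : i ≠ j) (hjl : j ≠ l) (hil : i ≠ l),
        θ (Matrix.SpecialLinearGroup.transvection hil 1) = ⁅C.L (QE hij 1), C.L (QE hjl 1)⁆ := by
  classical
  choose th th1 th2 using fun i j => exists_third hm i j
  let Y : ∀ i j : Fin m, i ≠ j → F → Γ := fun i j _ t =>
    ⁅C.L (QE (th1 i j).symm t), C.L (QE (th2 i j) 1)⁆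
  have hπY : ∀ i j (h : i ≠ j) t, C.π (Y i j h t) = QE h t := fun i j h t => by
    rw [map_commutatorElement, C.π_L, C.π_L, QE_comm3 _ _ h, mul_one]
  have hrel : ∀ r ∈ SteinbergSLn.rels m F,
      FreeGroup.lift (fun p : {ij : Fin m × Fin m // ij.1 ≠ ij.2} × F => Y p.1.1.1 p.1.1.2 p.1.2 p.2) r = 1 := by
    rintro r ((⟨⟨⟨i, j⟩, hij⟩, t, u, rfl⟩ | ⟨⟨⟨i, j⟩, hij⟩, ⟨⟨k, l⟩, hkl⟩, t, u, h1, h2', rfl⟩) |
      ⟨⟨⟨i, j⟩, hij⟩, ⟨⟨j', l⟩, hjl⟩, h, t, u, h2', rfl⟩)
    · simp only [map_mul, map_inv, FreeGroup.lift_apply_of]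
      rw [mul_inv_eq_one, add_comm t u]
      exact (C.add_left (QE (th1 i j).symm) (QE_add _) u t
        ((three_EE C h2 hm (th1 i j).symm hij hij (th1 i j) u t).lift (C.π_L _) (hπY i j hij t))).symm
    · simp only [map_mul, map_inv, FreeGroup.lift_apply_of]
      rw [mul_inv_eq_one, mul_inv_eq_iff_eq_mul]
      exact (three_EE C h2 hm hij hkl h1 h2' t u).lift (hπY i j hij t) (hπY k l hkl u)
    · simp only at h2' h
      subst h2'
      simp only [map_mul, map_inv, FreeGroup.lift_apply_of]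
      rw [mul_inv_eq_one, ← commutatorElement_def,
        C.comm_indep ((hπY i j hij t).trans (C.π_L _).symm) ((hπY j l hjl u).trans (C.π_L _).symm)]
      exact three_indep C h2 hm hij hjl h (th1 i l).symm (th2 i l) t u
  obtain ⟨e, he⟩ := SteinbergSLn.main (K := F) m (by omega)
  set θ := (PresentedGroup.toGroup hrel).comp e.symm.toMonoidHom
  have hθ : ∀ i j (h : i ≠ j) t, θ (Matrix.SpecialLinearGroup.transvection h t) = Y i j h t := fun i j h t => by
    show PresentedGroup.toGroup hrel (e.symm (Matrix.SpecialLinearGroup.transvection h t)) = _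
    rw [show Matrix.SpecialLinearGroup.transvection h t = e (PresentedGroup.of (⟨(i, j), h⟩, t)) from
      (Subtype.ext (he ⟨(i, j), h⟩ t)).symm, e.symm_apply_apply, PresentedGroup.toGroup.of]
  haveI : Nontrivial (Fin m) := Fin.nontrivial_iff_two_le.2 (by omega)
  have hπθ : C.π.comp θ = (lev m F).comp Matrix.SpecialLinearGroup.toGL := by
    refine MonoidHom.eq_of_eqOn_dense (Cfsg.Agent.Classical.sl_closure_transvections (F := F) (ι := Fin m)) ?_
    rintro _ ⟨i, j, h, t, rfl⟩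
    rw [MonoidHom.comp_apply, hθ, hπY]; rfl
  refine ⟨θ, fun v => DFunLike.congr_fun hπθ v, fun i j l hij hjl hil => ?_⟩
  have e' := three_indep C h2 hm hij hjl hil (th1 i l).symm (th2 i l) 1 1
  rw [mul_one] at e'
  rw [hθ, e']

/-- The canonical lifts in rank three. -/
theorem three_base : Nonempty (Base C) := by
  classical
  obtain ⟨θ, hπθ, hθ⟩ := three_theta C h2 hm
  have h' : 2 ≤ m := by omega
  set o := i0 h' with ho
  set q := i1 h' with hq
  set p : Fin m := ⟨2, by omega⟩ with hp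
  have hop : o ≠ p := fun e => by simpa [ho, hp, i0] using congrArg Fin.val e
  have hqp : q ≠ p := fun e => by simpa [hq, hp, i1] using congrArg Fin.val e
  have hunit : ∀ s : Fˣ, s = 1 := fun s => by
    refine Units.ext ((two_field h2 (s : F)).resolve_left s.ne_zero)
  have hconj1 : ∀ (k : Fin m) (s : Fˣ) x, C.L (lev m F (dk k s)) * x * (C.L (lev m F (dk k s)))⁻¹ = x :=
    fun k s x => by
      rw [← conj_L (C := C) (a := (1 : Γ)) (by rw [hunit s, map_one, map_one, map_one]), one_mul, inv_one, mul_one]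
  let X : F → Γ := fun b => ⁅C.L (QE hqp (1 : F)), C.L (QX o p b)⁆
  have hX : ∀ b, C.π (X b) = QX o q b := fun b => by
    rw [map_commutatorElement, C.π_L, C.π_L, commutatorElement_def, QX_symm o p, el_QX hqp 1 hop, one_mul,
      (QX_QX_comm _ _ _ _ _ _).eq, mul_inv_cancel_right, QX_symm]
  refine ⟨{ hm := h', θ := θ, hθ := hπθ,
            θ_equiv := fun k s v => by
              rw [hconj1]
              congr 1
              refine toGL_injective ?_
              rw [toGL_cg, hunit s, map_one, one_mul, inv_one, mul_one],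
            X := X, hX := hX, X_add := fun b b' => ?_, X_dk := fun k s _ b => ?_, wrel := ?_,
            tri := fun k hk => ?_, AX := fun b c => three_TXa C h2 hm (i0_ne h') b c,
            AB := fun b c => three_TT C h2 hm hTX (i0_ne h') b c,
            elA := fun x c h hc t b => three_ET C h2 hm hTX h hc.symm t b }⟩
  · show _ = ⁅_, C.L (QX o p (b + b'))⁆
    refine (C.add_right (QX o p) (QX_add o p) _ _ (Cl.lift (C := C) ?_ (C.π_L _) (hX b'))).symm
    rw [QX_symm o p, QX_symm o q]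
    exact three_XXs C h2 hm b b' hop.symm (i1_ne h')
  · rw [hconj1, hunit s, Units.val_one, one_mul]
  · rw [hθ q p o hqp hop.symm (i1_ne h')]
    refine C.conj_comm ?_ ?_
    · rw [map_mul, map_mul, map_inv, C.π_L, C.π_L, mul_inv_eq_iff_eq_mul]
      exact (model_stab o (stab_el hqp (i1_ne h') hop.symm 1) tw).eq.symm
    · rw [map_mul, map_mul, map_inv, C.π_L, C.π_L, C.π_L, QX_symm o p, QX_symm p o]
      exact emb_tw_QX' h' hop.symm 1
  · obtain rfl : k = p := Fin.ext (by simpa [hp] using hk)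
    have hc : ∀ (σ : Equiv.Perm (Fin m)) (x y z : Fin m), σ o = x → σ q = y → σ p = z → ∀ h : y ≠ z,
        C.L (lev m F (pg σ)) * X 1 * (C.L (lev m F (pg σ)))⁻¹ =
          ⁅C.L (QE h (1 : F)), C.L (QX x z 1)⁆ := fun σ x y z hx hy hz h => by
      refine C.conj_comm ?_ ?_
      · rw [map_mul, map_mul, map_inv, C.π_L, C.π_L, C.π_L, pg_QE]
        subst hy hz
        rfl
      · rw [map_mul, map_mul, map_inv, C.π_L, C.π_L, C.π_L, pg_QX, hx, hz]
    rw [hc _ o p q (Equiv.swap_apply_of_ne_of_ne (i0_ne h') hop) (Equiv.swap_apply_left _ _)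
        (Equiv.swap_apply_right _ _) hqp.symm,
      hc _ q p o (by rw [Equiv.Perm.mul_apply, Equiv.swap_apply_of_ne_of_ne (i0_ne h') hop, Equiv.swap_apply_left])
        (by rw [Equiv.Perm.mul_apply, Equiv.swap_apply_left, Equiv.swap_apply_of_ne_of_ne hop.symm hqp.symm])
        (by rw [Equiv.Perm.mul_apply, Equiv.swap_apply_right, Equiv.swap_apply_right]) hop.symm]
    have e : ∀ d' d x : Γ, ⁅d' * d, x⁆ = d' * ⁅d, x⁆ * d'⁻¹ * ⁅d', x⁆ := fun d' d x => by
      simp only [commutatorElement_def]; group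
    have hneg : (-1 : F) = 1 := (two_field h2 (-1 : F)).resolve_left (neg_ne_zero.2 one_ne_zero)
    rw [C.conj_comm (a' := C.L (QE hop.symm (1 : F)) * C.L (QE hqp.symm 1)) (b' := C.L (QX o q 1)) ?_ ?_, e]
    · have hcl : Commute (C.L (QE hop.symm (1 : F))) ⁅C.L (QE hqp.symm (1 : F)), C.L (QX o q 1)⁆ := by
        refine Cl.lift (C := C) (three_EX C h2 hm hTX hop.symm) (C.π_L _) ?_
        rw [map_commutatorElement, C.π_L, C.π_L, commutatorElement_def, QX_symm o q, el_QX hqp.symm 1 (i0_ne h'),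
          one_mul, (QX_QX_comm _ _ _ _ _ _).eq, mul_inv_cancel_right]
      rw [hcl.eq, mul_inv_cancel_right, QX_symm q o]
    · rw [map_mul, map_mul, map_inv, hπθ, C.π_L, map_mul, C.π_L, C.π_L]
      show QE (i1_ne h') (1 : F) * QE hqp.symm 1 * (QE (i1_ne h') (1 : F))⁻¹ = _
      have e1 := QE_comm3 (F := F) hqp.symm (i1_ne h') hop.symm (1 : F) 1
      rw [commutatorElement_def, mul_inv_eq_iff_eq_mul, mul_inv_eq_iff_eq_mul, one_mul] at e1
      have e2 : (QE hop.symm (1 : F))⁻¹ = QE hop.symm 1 := by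
        refine inv_eq_of_mul_eq_one_right ?_
        rw [QE_add, ← hneg, hneg, show (1 : F) + 1 = 0 by linear_combination -hneg]
        exact root_zero (QE_add _)
      rw [mul_inv_eq_iff_eq_mul]
      calc QE (i1_ne h') (1 : F) * QE hqp.symm 1
          = (QE hop.symm (1 : F))⁻¹ * (QE hqp.symm 1 * QE (i1_ne h') 1) := by
            rw [e1]; group
        _ = _ := by rw [e2]; simp only [mul_assoc]
    · rw [map_mul, map_mul, map_inv, hπθ, C.π_L]
      show QE (i1_ne h') (1 : F) * QX o q 1 * (QE (i1_ne h') (1 : F))⁻¹ = _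
      rw [el_QX_self, show (2 : F) * (1 * 1) = 0 by linear_combination -hneg, root_zero (QT_add q), mul_one]

/-- The section in rank three. -/
theorem exists_splitting_three : ∃ Φ : Sp m F →* Γ, ∀ g, C.π (Φ g) = g := by
  obtain ⟨D⟩ := three_base C h2 hm hTX
  exact D.exists_section

end Cfsg.Agent.Small.SpCover
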